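import Cfsg.Agent.H720.RIM.Uniq

/-!
# S4816, 2E6(2), p = 3: the centraliser and the fusion of `x = r s`, and of `⟨x, y⟩`
-/

set_option autoImplicit false
set_option linter.unusedSectionVars false

namespace Cfsg.Agent.H720.RIM

open Cfsg Cfsg.Agent.BabyU.RootCfg

/-- The facts on the class `R` used below. -/
structure Facts {E : Type*} [Group E] (R : Set E) : Prop where
  sq : ∀ r ∈ R, r * r = 1
  ne : ∀ r ∈ R, r ≠ 1
  conj : ∀ r ∈ R, ∀ g : E, g * r * g⁻¹ ∈ R
  ord : ∀ r ∈ R, ∀ s ∈ R, (r * s) ^ 4 = 1 ∨ (r * s) ^ 3 = 1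
  trans : OppTrans R
  uniq : ∀ r ∈ R, ∀ s ∈ R, Opp r s → ∀ t ∈ R, (∀ d ∈ R, d * r = r * d → d * s = s * d → t * d = d * t) →
    t = r ∨ t = s ∨ t = r * s * r
  four : ∀ r ∈ R, ∀ s ∈ R, (r * s) ^ 4 = 1 → (r * s) ^ 2 ≠ 1 → (r * s) ^ 2 ∈ R

section

variable {E : Type*} [Group E] {R : Set E}

theorem p3 (x : E) : x ^ 3 = x * x * x := by rw [pow_succ, pow_two]

theorem p4 (x : E) : x ^ 4 = x * x * x * x := by rw [pow_succ, p3]

/-- Inversion of `x`. -/
def Inv (t x : E) : Prop := t * x * t⁻¹ = x⁻¹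

theorem Inv.left {r s : E} (hr : r * r = 1) (hs : s * s = 1) : Inv r (r * s) := by
  have h1 : r⁻¹ = r := inv_eq_of_mul_eq_one_left hr
  have h2 : s⁻¹ = s := inv_eq_of_mul_eq_one_left hs
  show r * (r * s) * r⁻¹ = (r * s)⁻¹
  rw [mul_inv_rev, h1, h2, ← mul_assoc, hr, one_mul]

theorem Inv.right {r s : E} (hr : r * r = 1) (hs : s * s = 1) : Inv s (r * s) := by
  have h1 : r⁻¹ = r := inv_eq_of_mul_eq_one_left hr
  have h2 : s⁻¹ = s := inv_eq_of_mul_eq_one_left hs
  show s * (r * s) * s⁻¹ = (r * s)⁻¹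
  rw [mul_inv_rev, h1, h2]
  calc s * (r * s) * s = s * r * (s * s) := by group
    _ = s * r := by rw [hs, mul_one]

theorem Inv.mul {t u x : E} (ht : Inv t x) (hu : Inv u x) : Commute (t * u) x := by
  show t * u * x = x * (t * u)
  have h1 : u * x = x⁻¹ * u := by
    have : u * x * u⁻¹ * u = x⁻¹ * u := by rw [hu]
    rwa [inv_mul_cancel_right] at this
  have h2 : t * x⁻¹ = x * t := by
    have h3 : (t * x * t⁻¹)⁻¹ = x⁻¹⁻¹ := by rw [ht]
    rw [inv_inv] at h3
    have h4 : t * x⁻¹ * t⁻¹ = x := by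
      have h5 : t * x⁻¹ * t⁻¹ = (t * x * t⁻¹)⁻¹ := by group
      rw [h5, h3]
    calc t * x⁻¹ = t * x⁻¹ * t⁻¹ * t := by group
      _ = x * t := by rw [h4]
  calc t * u * x = t * (u * x) := by group
    _ = t * x⁻¹ * u := by rw [h1]; group
    _ = x * (t * u) := by rw [h2]; group

/-- an element inverting and centralising an element of order three -/
theorem not_both {t x : E} (hx : x ^ 3 = 1) (hne : x ≠ 1) (h1 : Inv t x) (h2 : t * x = x * t) : False := by
  have h3 : t * x * t⁻¹ = x := by rw [h2]; group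
  have h4 : x = x⁻¹ := h3.symm.trans h1
  apply hne
  have h5 : x * x = 1 := by
    calc x * x = x * x⁻¹ := by rw [← h4]
      _ = 1 := mul_inv_cancel x
  calc x = x ^ 3 * (x * x)⁻¹ := by group
    _ = 1 := by rw [hx, h5]; group

theorem cube_of_inv (H : Facts R) {x t u : E} (hx : x ^ 3 = 1) (hne : x ≠ 1) (ht : t ∈ R) (hu : u ∈ R)
    (h1 : Inv t x) (h2 : Inv u x) : (t * u) ^ 3 = 1 := by
  have hc : Commute (t * u) x := h1.mul h2
  have hx4 : x ^ 4 = x := by rw [show (4 : ℕ) = 3 + 1 from rfl, pow_succ, hx, one_mul]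
  have e : u * x = x * u * x⁻¹ := by
    have h3 : u * x = x⁻¹ * u := by
      have : u * x * u⁻¹ * u = x⁻¹ * u := by rw [h2]
      rwa [inv_mul_cancel_right] at this
    have h4 : x⁻¹ = x * x := by
      rw [inv_eq_iff_mul_eq_one]
      calc x * (x * x) = x ^ 3 := by rw [p3, mul_assoc]
        _ = 1 := hx
    have h5 : u * x⁻¹ = x * u := by
      calc u * x⁻¹ = u * (x * x) := by rw [← h4]
        _ = (u * x) * x := by group
        _ = x⁻¹ * u * x := by rw [h3]
        _ = x⁻¹ * (u * x) := by rw [mul_assoc]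
        _ = x⁻¹ * (x⁻¹ * u) := by rw [h3]
        _ = x⁻¹ * x⁻¹ * u := by rw [mul_assoc]
        _ = (x * x) * (x * x) * u := by rw [h4]
        _ = x ^ 4 * u := by rw [p4, mul_assoc (x * x) x x]
        _ = x * u := by rw [hx4]
    rw [h3, h4]
    calc x * x * u = x * (x * u) := by group
      _ = x * (u * x⁻¹) := by rw [h5]
      _ = x * u * x⁻¹ := by group
      _ = x * u * (x * x) := by rw [h4]
  have hR : u * x ∈ R := by rw [e]; exact H.conj u hu x
  have e2 : t * (u * x) = (t * u) * x := by group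
  rcases H.ord t ht u hu with h4 | h3
  · rcases H.ord t ht (u * x) hR with k | k
    · exfalso
      rw [e2, hc.mul_pow, h4, one_mul, hx4] at k
      exact hne k
    · rw [e2, hc.mul_pow, hx, mul_one] at k
      exact k
  · exact h3

/-- members of `R` inverting `x` commute with the members of `R` centralising `x` -/
theorem comm_of_inv (H : Facts R) {x t d : E} (hx : x ^ 3 = 1) (hne : x ≠ 1) (ht : t ∈ R) (hd : d ∈ R)
    (h1 : Inv t x) (h2 : d * x = x * d) : t * d = d * t := by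
  have hdd := H.sq d hd
  have htt := H.sq t ht
  have hd' : d⁻¹ = d := inv_eq_of_mul_eq_one_left hdd
  have ht' : t⁻¹ = t := inv_eq_of_mul_eq_one_left htt
  have hI : Inv (d * t * d⁻¹) x := by
    have h3 : d⁻¹ * x * d = x := by
      calc d⁻¹ * x * d = d⁻¹ * (x * d) := by group
        _ = d⁻¹ * (d * x) := by rw [h2]
        _ = x := by group
    show (d * t * d⁻¹) * x * (d * t * d⁻¹)⁻¹ = x⁻¹
    calc (d * t * d⁻¹) * x * (d * t * d⁻¹)⁻¹ = d * (t * (d⁻¹ * x * d) * t⁻¹) * d⁻¹ := by group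
      _ = d * (t * x * t⁻¹) * d⁻¹ := by rw [h3]
      _ = d * x⁻¹ * d⁻¹ := by rw [h1]
      _ = (d * x * d⁻¹)⁻¹ := by group
      _ = (x * d * d⁻¹)⁻¹ := by rw [h2]
      _ = x⁻¹ := by group
  have h3 := cube_of_inv H hx hne ht (H.conj t ht d) h1 hI
  have e : (t * (d * t * d⁻¹)) = (t * d) ^ 2 := by rw [hd', pow_two]; group
  rw [e, ← pow_mul] at h3
  rcases H.ord t ht d hd with k | k
  · have h4 : (t * d) ^ 2 = 1 := by
      have : (t * d) ^ 2 = (t * d) ^ (2 * 3) * ((t * d) ^ 4)⁻¹ := by group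
      rw [this, h3, k]; group
    rw [pow_two] at h4
    calc t * d = (t * d) * (d * t) * ((d * t)⁻¹) := by group
      _ = (t * (d * d) * t) * (d * t)⁻¹ := by group
      _ = (d * t)⁻¹ := by rw [hdd, mul_one, htt, one_mul]
      _ = (t * d) := by rw [mul_inv_rev, hd', ht']
      _ = (t * d) * ((t * d) * (t * d))⁻¹ := by rw [h4]; group
      _ = (t * d)⁻¹ := by group
      _ = d * t := by rw [mul_inv_rev, hd', ht']
  · exfalso
    -- `t d` inverts `x`, and so does its cube
    have hI2 : ∀ {a : E}, Inv a x → Inv (a * d) x := by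
      intro a ha
      show (a * d) * x * (a * d)⁻¹ = x⁻¹
      calc (a * d) * x * (a * d)⁻¹ = a * (d * x) * d⁻¹ * a⁻¹ := by group
        _ = a * (x * d) * d⁻¹ * a⁻¹ := by rw [h2]
        _ = a * x * a⁻¹ := by group
        _ = x⁻¹ := ha
    have hi : Inv (t * d) x := hI2 h1
    have hc : Commute (t * d * (t * d)) x := hi.mul hi
    have hc1 : t * d * (t * d) * x = x * (t * d * (t * d)) := hc
    have h5 : (t * d)⁻¹ = t * d * (t * d) := by
      rw [inv_eq_iff_mul_eq_one]
      calc t * d * (t * d * (t * d)) = (t * d) ^ 3 := by rw [p3, mul_assoc (t * d)]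
        _ = 1 := k
    have h6 : (t * d) * x = x * (t * d) := by
      rw [← h5] at hc1
      calc (t * d) * x = (t * d) * (x * (t * d)⁻¹) * (t * d) := by group
        _ = (t * d) * ((t * d)⁻¹ * x) * (t * d) := by rw [hc1]
        _ = x * (t * d) := by group
    exact not_both hx hne hi h6

theorem opp_ne {r s : E} (hs : s * s = 1) (h : Opp r s) : r * s ≠ 1 := by
  intro e
  apply h.1
  rw [eq_inv_of_mul_eq_one_left e, inv_eq_of_mul_eq_one_left hs]

/-- members of `R` commuting with `r s` commute with `r` and `s` -/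
theorem comm_pair (H : Facts R) {r s d : E} (hr : r ∈ R) (hs : s ∈ R) (h : Opp r s) (hd : d ∈ R)
    (hc : d * (r * s) = (r * s) * d) : d * r = r * d ∧ d * s = s * d :=
  ⟨(comm_of_inv H h.2 (opp_ne (H.sq s hs) h) hr hd (Inv.left (H.sq r hr) (H.sq s hs)) hc).symm,
    (comm_of_inv H h.2 (opp_ne (H.sq s hs) h) hs hd (Inv.right (H.sq r hr) (H.sq s hs)) hc).symm⟩

/-- **The members of `R` inverting `r s`.** -/
theorem inv_mem (H : Facts R) {r s t : E} (hr : r ∈ R) (hs : s ∈ R) (h : Opp r s) (ht : t ∈ R)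
    (hI : Inv t (r * s)) : t = r ∨ t = s ∨ t = r * s * r := by
  refine H.uniq r hr s hs h t ht fun d hd h1 h2 => ?_
  have hc : d * (r * s) = (r * s) * d :=
    (Commute.mul_right (show Commute d r from h1) (show Commute d s from h2)).eq
  exact comm_of_inv H h.2 (opp_ne (H.sq s hs) h) ht hd hI hc

theorem mem_cent2 {r s g : E} : g ∈ Subgroup.centralizer ({r, s} : Set E) ↔ g * r = r * g ∧ g * s = s * g := by
  rw [Subgroup.mem_centralizer_iff]
  constructor
  · intro h
    exact ⟨(h r (Set.mem_insert _ _)).symm, (h s (Set.mem_insert_of_mem _ rfl)).symm⟩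
  · rintro ⟨h1, h2⟩ y (rfl | rfl)
    · exact h1.symm
    · exact h2.symm

/-- **The centraliser of `r s`.** -/
theorem cent_dec (H : Facts R) {r s g : E} (hr : r ∈ R) (hs : s ∈ R) (h : Opp r s)
    (hg : g * (r * s) = (r * s) * g) :
    ∃ c, (c * r = r * c ∧ c * s = s * c) ∧ (g = c ∨ g = (r * s) * c ∨ g = (r * s) * (r * s) * c) := by
  have hrr := H.sq r hr
  have hss := H.sq s hs
  have hr' : r⁻¹ = r := inv_eq_of_mul_eq_one_left hrr
  have hs' : s⁻¹ = s := inv_eq_of_mul_eq_one_left hss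
  set x := r * s with hx
  have hx3 : x ^ 3 = 1 := h.2
  have hx3' : x * x * x = 1 := by rw [← p3, hx3]
  have hI : Inv (g * r * g⁻¹) x := by
    have h0 : Inv r x := Inv.left hrr hss
    have h3 : g⁻¹ * x * g = x := by
      calc g⁻¹ * x * g = g⁻¹ * (x * g) := by group
        _ = g⁻¹ * (g * x) := by rw [hg]
        _ = x := by group
    show (g * r * g⁻¹) * x * (g * r * g⁻¹)⁻¹ = x⁻¹
    calc (g * r * g⁻¹) * x * (g * r * g⁻¹)⁻¹ = g * (r * (g⁻¹ * x * g) * r⁻¹) * g⁻¹ := by group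
      _ = g * (r * x * r⁻¹) * g⁻¹ := by rw [h3]
      _ = g * x⁻¹ * g⁻¹ := by rw [h0]
      _ = (g * x * g⁻¹)⁻¹ := by group
      _ = (x * g * g⁻¹)⁻¹ := by rw [hg]
      _ = x⁻¹ := by group
  have key : ∀ c : E, c * x = x * c → c * r * c⁻¹ = r → (c * r = r * c ∧ c * s = s * c) := by
    intro c h1 h2
    have h3 : c * r = r * c := mul_inv_eq_iff_eq_mul.1 h2
    refine ⟨h3, ?_⟩
    have h4 : s = r * x := by rw [hx, ← mul_assoc, hrr, one_mul]
    rw [h4]
    calc c * (r * x) = (c * r) * x := by group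
      _ = r * (c * x) := by rw [h3]; group
      _ = r * x * c := by rw [h1]; group
  rcases inv_mem H hr hs h (H.conj r hr g) hI with k | k | k
  · exact ⟨g, key g hg k, Or.inl rfl⟩
  · refine ⟨x * x * g, key _ ?_ ?_, Or.inr (Or.inl ?_)⟩
    · calc x * x * g * x = x * x * (g * x) := by group
        _ = _ := by rw [hg]; group
    · calc x * x * g * r * (x * x * g)⁻¹ = x * x * (g * r * g⁻¹) * (x * x)⁻¹ := by group
        _ = x * x * s * (x * x)⁻¹ := by rw [k]
        _ = x⁻¹ * (x * x * x) * s * (x * x * x)⁻¹ * x := by group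
        _ = x⁻¹ * s * x := by rw [hx3']; group
        _ = s⁻¹ * (r⁻¹ * s * r) * s := by rw [hx]; group
        _ = s * (r * s * r) * s := by rw [hs', hr']
        _ = (x * x * x)⁻¹ * r := by rw [hx]; simp only [mul_inv_rev, hr', hs']; simp only [mul_assoc, hrr, mul_one]
        _ = r := by rw [hx3', inv_one, one_mul]
    · calc g = (x * x * x) * g := by rw [hx3', one_mul]
        _ = _ := by group
  · refine ⟨x * g, key _ ?_ ?_, Or.inr (Or.inr ?_)⟩
    · calc x * g * x = x * (g * x) := mul_assoc _ _ _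
        _ = x * (x * g) := by rw [hg]
    · calc x * g * r * (x * g)⁻¹ = x * (g * r * g⁻¹) * x⁻¹ := by group
        _ = x * (r * s * r) * x⁻¹ := by rw [k]
        _ = x * (r * s) * (r * s⁻¹) * r⁻¹ := by rw [hx]; group
        _ = x * x * (r * s) * r := by rw [hr', hs', ← hx]
        _ = (x * x * x) * r := by rw [hx]
        _ = r := by rw [hx3', one_mul]
    · calc g = (x * x * x) * g := by rw [hx3', one_mul]
        _ = _ := by group

end

end Cfsg.Agent.H720.RIM
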