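import Cfsg.Agent.R01.PSUSix

/-!
# `PSU 6 F 2`: the centraliser of two noncommuting transvections is `PSU 4 F 2` and lies in a copy of `PSU 5 F 2`
-/

set_option autoImplicit false
set_option linter.unusedSectionVars false

namespace Cfsg.Agent.H720.RIM

open Cfsg Cfsg.Agent.LieClassical.HermBasic Cfsg.Agent.R01.PSUSix Cfsg.Agent.ClassicalGeometry.UnitTransv
open Cfsg.Agent.ClassicalGeometry.UnitAutBasic (tau pr pr_surjective)
open Cfsg.Agent.SporadicStructure.UnitTwo (two_eq_zero add_self exists_omega vadd_self pow_three)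

variable {F : Type*} [Field F] [Fintype F] (hF : Fintype.card F = 2 ^ 2)
include hF

theorem center_triv {m : ℕ} (hm : m = 4 ∨ m = 5) {z : SU m F 2} (hz : z ∈ Subgroup.center (SU m F 2)) : z = 1 := by
  obtain ⟨c, hcn, hcq, rfl⟩ := (Cfsg.Agent.LieClassical.SUBasic.mem_center_SU_iff hF (by omega) z).1 hz
  have hc : c = 1 := by
    have h3 : c ^ 3 = 1 := hcq
    rcases hm with rfl | rfl
    · linear_combination hcn - c * h3
    · linear_combination (-c) * hcn + (c ^ 3 + 1) * h3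
  apply ext_act
  intro x
  rw [act_def, Cfsg.Agent.LieClassical.SUBasic.coe_suScalar, act_one]
  funext i
  rw [Matrix.mulVec_diagonal, hc, one_mul]

theorem pr_inj {m : ℕ} (hm : m = 4 ∨ m = 5) : Function.Injective (pr m F 2) := by
  rw [injective_iff_map_eq_one]
  intro z hz
  exact center_triv hF hm ((QuotientGroup.eq_one_iff z).1 hz)

/-- `SU m F 2 = PSU m F 2` for `m = 4, 5` -/
noncomputable def suEquiv {m : ℕ} (hm : m = 4 ∨ m = 5) : SU m F 2 ≃* PSU m F 2 :=
  MulEquiv.ofBijective (pr m F 2) ⟨pr_inj hF hm, pr_surjective⟩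

/-- The kernel of the projection consists of scalars. -/
theorem scalar_of_pr {g : SU 6 F 2} (h : pr 6 F 2 g = 1) : ∃ c : F, c ^ 3 = 1 ∧ ∀ x, act g x = c • x := by
  have hz : g ∈ Subgroup.center (SU 6 F 2) := (QuotientGroup.eq_one_iff g).1 h
  obtain ⟨c, hcn, hcq, rfl⟩ := (Cfsg.Agent.LieClassical.SUBasic.mem_center_SU_iff hF (by norm_num) g).1 hz
  refine ⟨c, hcq, fun x => ?_⟩
  rw [act_def, Cfsg.Agent.LieClassical.SUBasic.coe_suScalar]
  funext i
  rw [Matrix.mulVec_diagonal]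
  rfl

theorem emb_inj {m k : ℕ} (hmk : m + (k + 1) = 6) {g : SU m F 2} {g6 : SU 6 F 2}
    (he : ∀ (x : Fin m → F) (y : Fin (k + 1) → F), act g6 (Fin.append x y ∘ Fin.cast hmk.symm) =
      Fin.append (act g x) y ∘ Fin.cast hmk.symm) (h : pr 6 F 2 g6 = 1) : g = 1 := by
  obtain ⟨c, -, hc⟩ := scalar_of_pr hF h
  have c1 : c = 1 := by
    have e1 := he 0 (fun _ => 1)
    rw [hc, act_zero] at e1
    have e2 := congrFun e1 (Fin.cast hmk (Fin.natAdd m 0))
    simpa using e2
  apply ext_act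
  intro x
  have e1 := he x 0
  rw [hc, c1, one_smul] at e1
  rw [act_one]
  funext i
  have e2 := congrFun e1 (Fin.cast hmk (Fin.castAdd (k + 1) i))
  simpa using e2.symm

/-- The embeddings into `PSU 6 F 2`. -/
def f4 (F : Type*) [Field F] : SU 4 F 2 →* PSU 6 F 2 := (pr 6 F 2).comp (emb 2 : SU 4 F 2 →* SU (4 + 2) F 2)

/-- The embeddings into `PSU 6 F 2`. -/
def f5 (F : Type*) [Field F] : SU 5 F 2 →* PSU 6 F 2 := (pr 6 F 2).comp (emb 1 : SU 5 F 2 →* SU (5 + 1) F 2)

theorem f4_inj : Function.Injective (f4 F) := by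
  rw [injective_iff_map_eq_one]
  intro g hg
  refine emb_inj hF (m := 4) (k := 1) (by norm_num) (g6 := (emb 2 g : SU (4 + 2) F 2)) (fun x y => ?_) hg
  exact act_emb g x y

theorem f5_inj : Function.Injective (f5 F) := by
  rw [injective_iff_map_eq_one]
  intro g hg
  refine emb_inj hF (m := 5) (k := 0) (by norm_num) (g6 := (emb 1 g : SU (5 + 1) F 2)) (fun x y => ?_) hg
  exact act_emb g x y

omit [Fintype F] hF in
theorem append_eq (v : Fin 6 → F) : v = (Fin.append (Fin.append (fun i : Fin 4 => v (Fin.castAdd 2 i)) ![v 4] : Fin (4 + 1) → F) ![v 5] :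
    Fin (4 + 1 + 1) → F) := by
  funext i
  fin_cases i <;> rfl

omit [Fintype F] hF in
theorem append_eq' (v : Fin 6 → F) : v = (Fin.append (fun i : Fin 4 => v (Fin.castAdd 2 i)) ![v 4, v 5] : Fin (4 + 2) → F) := by
  funext i
  fin_cases i <;> rfl

omit [Fintype F] hF in
theorem append_eq'' (x : Fin 4 → F) (a b : F) : (Fin.append x ![a, b] : Fin (4 + 2) → F) =
    (Fin.append (Fin.append x ![a] : Fin (4 + 1) → F) ![b] : Fin (4 + 1 + 1) → F) := by
  funext i
  fin_cases i <;> rfl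

omit [Fintype F] hF in
/-- the first embedding factors through the second -/
theorem f4_eq (g : SU 4 F 2) : f4 F g = f5 F (emb 1 g : SU (4 + 1) F 2) := by
  show pr 6 F 2 (emb 2 g : SU (4 + 2) F 2) = pr 6 F 2 (emb 1 (emb 1 g : SU (4 + 1) F 2) : SU (4 + 1 + 1) F 2)
  congr 1
  apply ext_act (n := 6)
  intro v
  have h1 : act (emb 2 g : SU (4 + 2) F 2) v = (Fin.append (act g (fun i : Fin 4 => v (Fin.castAdd 2 i))) ![v 4, v 5] : Fin (4 + 2) → F) := by
    conv_lhs => rw [append_eq' v]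
    exact act_emb _ _ _
  have h2 : act (emb 1 (emb 1 g : SU (4 + 1) F 2) : SU (4 + 1 + 1) F 2) v =
      (Fin.append (Fin.append (act g (fun i : Fin 4 => v (Fin.castAdd 2 i))) ![v 4] : Fin (4 + 1) → F) ![v 5] :
        Fin (4 + 1 + 1) → F) := by
    conv_lhs => rw [append_eq v]
    rw [act_emb, act_emb]
  rw [append_eq''] at h1
  exact h1.trans h2.symm

/-- **The centraliser of `tau u0` and `tau v0`** -/
theorem cent_special {ω : F} (hω : ω ^ 2 + ω + 1 = 0) :
    Subgroup.centralizer ({tau hF (u0 F 4), tau hF (v0 4 ω)} : Set (PSU 6 F 2)) = (f4 F).range := by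
  have huu := herm_u0 (F := F) hF (m := 4)
  have hvv := herm_v0 (F := F) hF hω (m := 4)
  have huv := herm_u0_v0 (F := F) hF hω (m := 4)
  have hvu := herm_v0_u0 (F := F) hF hω (m := 4)
  have hu0 := u0_ne_zero (F := F) hF (m := 4)
  have hv0 : (v0 4 ω : Fin 6 → F) ≠ 0 := by
    intro h
    have h1 : hermForm 6 F 2 (v0 4 ω) (u0 F 4) = 1 := hvu
    rw [h, herm_zero_left] at h1
    exact zero_ne_one h1
  apply le_antisymm
  · intro x hx
    rw [Subgroup.mem_centralizer_iff] at hx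
    have k1 := hx (tau hF (u0 F 4)) (Set.mem_insert _ _)
    have k2 := hx (tau hF (v0 4 ω)) (Set.mem_insert_of_mem _ rfl)
    obtain ⟨g, rfl⟩ := pr_surjective x
    have key : ∀ {v : Fin 6 → F}, v ≠ 0 → hermForm 6 F 2 v v = 0 → tau hF v * pr 6 F 2 g = pr 6 F 2 g * tau hF v →
        ∃ c : F, c ≠ 0 ∧ act g v = c • v := by
      intro v h0 hv h
      have h1 : tau hF v = tau hF (act g v) := by
        rw [← conj_tau hF g hv, ← h]; group
      exact (tau_eq_iff hF (by norm_num) hv (by rw [herm_act, hv]) h0).1 h1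
    obtain ⟨c, c0, hc⟩ := key hu0 huu k1
    obtain ⟨c', c0', hc'⟩ := key hv0 hvv k2
    have e1 : c * c' ^ 2 = 1 := by
      have h1 : hermForm 6 F 2 (act g (u0 F 4)) (act g (v0 4 ω)) = 1 := by rw [herm_act]; exact huv
      have h2 : hermForm 6 F 2 (u0 F 4) (v0 4 ω) = 1 := huv
      rw [hc, hc', herm_smul_left, herm_smul_right, h2] at h1
      linear_combination h1
    have c3 : c ^ 3 = 1 := pow_three hF c0
    have c3' : c' ^ 3 = 1 := pow_three hF c0'
    have hcc : c' = c := by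
      have : c' = c * c' ^ 3 := by linear_combination (-c') * e1
      rw [this, c3', mul_one]
    have hci : c⁻¹ ^ 3 = 1 := pow_three hF (inv_ne_zero c0)
    set z : SU 6 F 2 := Cfsg.Agent.LieClassical.SUBasic.suScalar 2 c⁻¹
      (by rw [show (6 : ℕ) = 3 * 2 from rfl, pow_mul, hci, one_pow]) hci with hz
    have hzact : ∀ v : Fin 6 → F, act z v = c⁻¹ • v := by
      intro v
      rw [act_def, hz, Cfsg.Agent.LieClassical.SUBasic.coe_suScalar]
      funext i
      rw [Matrix.mulVec_diagonal]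
      rfl
    have hzc : z ∈ Subgroup.center (SU 6 F 2) :=
      Cfsg.Agent.LieClassical.SUBasic.suScalar_mem_center _ _ _ _
    have hprz : pr 6 F 2 z = 1 := (QuotientGroup.eq_one_iff z).2 hzc
    have hpr : pr 6 F 2 g = pr 6 F 2 (z * g) := by rw [map_mul, hprz, one_mul]
    obtain ⟨g0, hg0⟩ := eq_emb hF hω (m := 4) (g := (z * g : SU 6 F 2))
      (by
        show act (z * g : SU 6 F 2) (u0 F 4) = u0 F 4
        rw [act_mul, hc, hzact, smul_smul, inv_mul_cancel₀ c0, one_smul])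
      (by
        show act (z * g : SU 6 F 2) (v0 4 ω) = v0 4 ω
        rw [act_mul, hc', hzact, smul_smul, hcc, inv_mul_cancel₀ c0, one_smul])
    rw [hpr]
    exact ⟨g0, by show pr 6 F 2 (emb 2 g0 : SU (4 + 2) F 2) = _; rw [hg0]⟩
  · rintro _ ⟨g0, rfl⟩
    have fix : ∀ y : Fin 2 → F, act (emb 2 g0 : SU (4 + 2) F 2) (Fin.append 0 y) = Fin.append 0 y := by
      intro y; rw [act_emb, act_zero]
    have cm : ∀ {v : Fin 6 → F}, hermForm 6 F 2 v v = 0 → act (emb 2 g0 : SU (4 + 2) F 2) v = v →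
        tau hF v * f4 F g0 = f4 F g0 * tau hF v := by
      intro v hv hfix
      have h1 := conj_tau hF (emb 2 g0 : SU (4 + 2) F 2) hv
      change f4 F g0 * tau hF v * (f4 F g0)⁻¹ = tau hF (act (emb 2 g0 : SU (4 + 2) F 2) v) at h1
      rw [hfix] at h1
      exact (mul_inv_eq_iff_eq_mul.1 h1).symm
    rw [Subgroup.mem_centralizer_iff]
    rintro y (rfl | rfl)
    · exact cm huu (fix ![1, 1])
    · exact cm hvv (fix ![ω, ω ^ 2])

/-- **`V4` is `PSU 4 F 2` and lies in a `PSU 5 F 2`.** -/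
theorem v4 {v w : Fin 6 → F} (hv : hermForm 6 F 2 v v = 0) (hw : hermForm 6 F 2 w w = 0)
    (hvw : hermForm 6 F 2 v w ≠ 0) :
    Nonempty (↥(Subgroup.centralizer ({tau hF v, tau hF w} : Set (PSU 6 F 2))) ≃* PSU 4 F 2) ∧
      ∃ M : Subgroup (PSU 6 F 2), Subgroup.centralizer ({tau hF v, tau hF w} : Set (PSU 6 F 2)) ≤ M ∧
        Nonempty (M ≃* PSU 5 F 2) := by
  obtain ⟨ω, hω⟩ := exists_omega hF
  have huu := herm_u0 (F := F) hF (m := 4)
  have hvv := herm_v0 (F := F) hF hω (m := 4)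
  have huv := herm_u0_v0 (F := F) hF hω (m := 4)
  have hvu := herm_v0_u0 (F := F) hF hω (m := 4)
  have hu0 := u0_ne_zero (F := F) hF (m := 4)
  have hv0 : (v0 4 ω : Fin 6 → F) ≠ 0 := by
    intro h
    have h1 : hermForm 6 F 2 (v0 4 ω) (u0 F 4) = 1 := hvu
    rw [h, herm_zero_left] at h1
    exact zero_ne_one h1
  have v0' : v ≠ 0 := by rintro rfl; exact hvw (herm_zero_left _)
  have w0' : w ≠ 0 := by rintro rfl; exact hvw (herm_zero_right hF _)
  obtain ⟨g, hg1, hg2⟩ := trans_noncommuting hF (m := 4) (by norm_num) (tau hF (u0 F 4)) (tau_mem hF hu0 huu)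
    (tau hF (v0 4 ω)) (tau_mem hF hv0 hvv) (tau hF v) (tau_mem hF v0' hv) (tau hF w) (tau_mem hF w0' hw)
    (by
      rw [tau_commute_iff hF (by norm_num) huu hvv hu0, huv]
      exact one_ne_zero)
    (by
      rw [tau_commute_iff hF (by norm_num) hv hw v0']
      exact hvw)
  have hs := cent_special hF hω
  -- the centraliser is the conjugate
  have hconj : Subgroup.centralizer ({tau hF v, tau hF w} : Set (PSU 6 F 2)) =
      ((f4 F).range).map (MulAut.conj g).toMonoidHom := by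
    rw [← hs]
    ext x
    have mem2 : ∀ {a b y : PSU 6 F 2}, y ∈ Subgroup.centralizer ({a, b} : Set (PSU 6 F 2)) ↔ y * a = a * y ∧ y * b = b * y := by
      intro a b y
      rw [Subgroup.mem_centralizer_iff]
      constructor
      · intro h
        exact ⟨(h a (Set.mem_insert _ _)).symm, (h b (Set.mem_insert_of_mem _ rfl)).symm⟩
      · rintro ⟨h1, h2⟩ z (rfl | rfl)
        · exact h1.symm
        · exact h2.symm
    have cj : ∀ (y a : PSU 6 F 2), (g * y * g⁻¹) * (g * a * g⁻¹) = (g * a * g⁻¹) * (g * y * g⁻¹) ↔ y * a = a * y := by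
      intro y a
      constructor
      · intro h
        have h1 : g⁻¹ * ((g * y * g⁻¹) * (g * a * g⁻¹)) * g = g⁻¹ * ((g * a * g⁻¹) * (g * y * g⁻¹)) * g := by rw [h]
        calc y * a = g⁻¹ * ((g * y * g⁻¹) * (g * a * g⁻¹)) * g := by group
          _ = _ := h1
          _ = a * y := by group
      · intro h
        calc (g * y * g⁻¹) * (g * a * g⁻¹) = g * (y * a) * g⁻¹ := by group
          _ = g * (a * y) * g⁻¹ := by rw [h]
          _ = _ := by group
    rw [mem2, Subgroup.mem_map]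
    constructor
    · rintro ⟨h1, h2⟩
      refine ⟨g⁻¹ * x * g, mem2.2 ⟨?_, ?_⟩, ?_⟩
      · rw [← cj, hg1]
        have : g * (g⁻¹ * x * g) * g⁻¹ = x := by group
        rw [this]; exact h1
      · rw [← cj, hg2]
        have : g * (g⁻¹ * x * g) * g⁻¹ = x := by group
        rw [this]; exact h2
      · show g * (g⁻¹ * x * g) * g⁻¹ = x
        group
    · rintro ⟨y, hy, rfl⟩
      obtain ⟨h1, h2⟩ := mem2.1 hy
      show (g * y * g⁻¹) * tau hF v = tau hF v * (g * y * g⁻¹) ∧ (g * y * g⁻¹) * tau hF w = tau hF w * (g * y * g⁻¹)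
      rw [← hg1, ← hg2]
      exact ⟨(cj _ _).2 h1, (cj _ _).2 h2⟩
  rw [hconj]
  refine ⟨⟨?_⟩, ((f5 F).range).map (MulAut.conj g).toMonoidHom, ?_, ⟨?_⟩⟩
  · exact (((f4 F).range.equivMapOfInjective _ (MulAut.conj g).injective).symm.trans
      (MonoidHom.ofInjective (f4_inj hF)).symm).trans (suEquiv hF (Or.inl rfl))
  · apply Subgroup.map_mono
    rintro _ ⟨a, rfl⟩
    exact ⟨emb 1 a, (f4_eq a).symm⟩
  · exact (((f5 F).range.equivMapOfInjective _ (MulAut.conj g).injective).symm.trans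
      (MonoidHom.ofInjective (f5_inj hF)).symm).trans (suEquiv hF (Or.inr rfl))

end Cfsg.Agent.H720.RIM
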