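import Cfsg.Agent.H720.RIM.Inst
import Cfsg.Agent.H720.RIM.V4

/-!
# S4816, 2E6(2), p = 3: `L = C(r, s, d, e)` is `PSU 4 F 2` and lies in a copy of `PSU 5 F 2`
-/

set_option autoImplicit false
set_option linter.unusedSectionVars false

namespace Cfsg.Agent.H720.RIM

open Cfsg Cfsg.Lie Cfsg.Agent.BabyU Cfsg.Agent.BabyU.RootCfg Cfsg.Agent.TwoESix
open Cfsg.Agent.LieClassical.HermBasic Cfsg.Agent.R01.PSUSix
open Cfsg.Agent.ClassicalGeometry.UnitAutBasic (tau pr pr_surjective)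

variable {F : Type*} [Field F] [Fintype F] {hF : Fintype.card F = 2 ^ 2}

theorem iso_L {S : Type*} [Group S] {R : Set S} (RF : RootFacts hF R) {r s d e : S} (q : Quad R r s d e) :
    Nonempty (q.L ≃* PSU 4 F 2) ∧ ∃ M : Subgroup S, q.L ≤ M ∧ Nonempty (M ≃* PSU 5 F 2) := by
  obtain ⟨C, memC, ψ, hψ⟩ : ∃ C : Subgroup S, (∀ g, g ∈ C ↔ g * r = r * g ∧ g * s = s * g) ∧
      ∃ ψ : ↥C ≃* PSU 6 F 2, ∀ x : ↥C, (x : S) ∈ R ↔ ψ x ∈ TT hF 6 :=
    ⟨Subgroup.centralizer {r, s}, fun g => mem_cent2, LeviHyp.chart_equiv RF q.r1 q.s1 q.rs⟩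
  have hdC : d ∈ C := (memC d).2 ⟨q.dr, q.ds⟩
  have heC : e ∈ C := (memC e).2 ⟨q.er, q.es⟩
  obtain ⟨v, v0, vv, hv⟩ := (hψ ⟨d, hdC⟩).1 q.d1
  obtain ⟨w, w0, ww, hw⟩ := (hψ ⟨e, heC⟩).1 q.e1
  have hvw : hermForm 6 F 2 v w ≠ 0 := by
    intro h0
    have h1 : Commute (tau hF v) (tau hF w) := (tau_commute_iff hF (by norm_num) vv ww v0).2 h0
    rw [← hv, ← hw] at h1
    have h2 : (⟨d, hdC⟩ : C) * ⟨e, heC⟩ = ⟨e, heC⟩ * ⟨d, hdC⟩ := by
      apply ψ.injective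
      rw [map_mul, map_mul]
      exact h1.eq
    exact q.de.not_comm (RF.sq d q.d1) (RF.sq e q.e1) (congrArg Subtype.val h2)
  obtain ⟨⟨i4⟩, M, hM, ⟨i5⟩⟩ := v4 hF vv ww hvw
  set V := Subgroup.centralizer ({tau hF v, tau hF w} : Set (PSU 6 F 2)) with hV
  -- `L` is the image of `V` in `S`
  set j : PSU 6 F 2 →* S := C.subtype.comp ψ.symm.toMonoidHom with hj
  have jinj : Function.Injective j := C.subtype_injective.comp ψ.symm.injective
  have ja : ∀ y, j y = (ψ.symm y : S) := fun y => rfl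
  have hL : q.L = V.map j := by
    ext g
    rw [q.mem_L, Subgroup.mem_map]
    have cm : ∀ (y : PSU 6 F 2) {a : S} (ha : a ∈ C), y * ψ ⟨a, ha⟩ = ψ ⟨a, ha⟩ * y ↔ j y * a = a * j y := by
      intro y a ha
      rw [ja]
      constructor
      · intro h
        have h1 := congrArg ψ.symm h
        rw [map_mul, map_mul, ψ.symm_apply_apply] at h1
        exact congrArg Subtype.val h1
      · intro h
        apply ψ.symm.injective
        rw [map_mul, map_mul, ψ.symm_apply_apply]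
        exact Subtype.ext h
    constructor
    · rintro ⟨hrs, hd, he⟩
      have hgC : g ∈ C := (memC g).2 hrs
      have hjg : j (ψ ⟨g, hgC⟩) = g := by rw [ja, ψ.symm_apply_apply]
      refine ⟨ψ ⟨g, hgC⟩, ?_, hjg⟩
      rw [hV, mem_cent2, ← hv, ← hw, cm _ hdC, cm _ heC, hjg]
      exact ⟨hd, he⟩
    · rintro ⟨y, hy, rfl⟩
      rw [hV, mem_cent2, ← hv, ← hw, cm _ hdC, cm _ heC] at hy
      exact ⟨(memC _).1 (ψ.symm y).2, hy⟩
  refine ⟨⟨?_⟩, M.map j, ?_, ⟨(M.equivMapOfInjective j jinj).symm.trans i5⟩⟩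
  · rw [hL]
    exact (V.equivMapOfInjective j jinj).symm.trans i4
  · rw [hL]
    exact Subgroup.map_mono hM

end Cfsg.Agent.H720.RIM
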