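import Cfsg.Agent.BabyU.RootCfg

/-!
# S4816, 2E6(2), p = 3: the root involutions inverting a product of two opposite root involutions

`R` is the class of root involutions of a group with `RootFacts` (charts into `PSU 6 F 2`).  If `r, s ∈ R` are opposite, then
every member of `R` inverting `x = r s` is one of `r, s, r s r`; hence `C(x) = ⟨x⟩ C(r, s)`.
-/

set_option autoImplicit false
set_option linter.unusedSectionVars false

namespace Cfsg.Agent.H720.RIM

open Cfsg Cfsg.Agent.LieClassical.HermBasic Cfsg.Agent.R01.PSUSix Cfsg.Agent.BabyU.RootCfg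
open Cfsg.Agent.ClassicalGeometry.UnitAutBasic (tau pr pr_surjective)
open Cfsg.Agent.SporadicStructure.UnitTwo (two_eq_zero add_self exists_omega vadd_self)

/-- Transitivity on the opposite pairs. -/
def OppTrans {E : Type*} [Group E] (R : Set E) : Prop :=
  ∀ r ∈ R, ∀ s ∈ R, ∀ r' ∈ R, ∀ s' ∈ R, Opp r s → Opp r' s' → ∃ g : E, g * r * g⁻¹ = r' ∧ g * s * g⁻¹ = s'

section Lin

variable {F : Type*} [Field F] [Fintype F]

/-- A vector orthogonal to all isotropic vectors is zero. -/
theorem eq_zero_of_iso (hF : Fintype.card F = 2 ^ 2) (y : Fin 4 → F)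
    (h : ∀ z : Fin 4 → F, hermForm 4 F 2 z z = 0 → hermForm 4 F 2 y z = 0) : y = 0 := by
  obtain ⟨ω, hω⟩ := exists_omega hF
  have h2 := two_eq_zero hF
  have h3 : ω ^ 3 = 1 := omega_cubed hω
  have iso1 : ∀ c : F, c ^ 3 = 1 → (hermForm 4 F 2 y ![1, c, 0, 0] = 0 ∧ hermForm 4 F 2 y ![0, 0, 1, c] = 0) := by
    intro c hc
    constructor
    · apply h
      rw [herm_def]
      simp [Fin.sum_univ_four]
      linear_combination hc + h2
    · apply h
      rw [herm_def]
      simp [Fin.sum_univ_four]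
      linear_combination hc + h2
  obtain ⟨a1, b1⟩ := iso1 1 (one_pow 3)
  obtain ⟨a2, b2⟩ := iso1 ω h3
  rw [herm_def] at a1 a2 b1 b2
  simp [Fin.sum_univ_four] at a1 a2 b1 b2
  have ne : (1 : F) + ω ^ 2 ≠ 0 := by
    intro h0
    have : ω = 0 := by linear_combination hω - h0
    rw [this] at h3
    norm_num at h3
  have y1 : y 1 = 0 := by
    have : y 1 * (1 + ω ^ 2) = 0 := by linear_combination a2 - a1 + y 1 * h2
    exact (mul_eq_zero.1 this).resolve_right ne
  have y3 : y 3 = 0 := by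
    have : y 3 * (1 + ω ^ 2) = 0 := by linear_combination b2 - b1 + y 3 * h2
    exact (mul_eq_zero.1 this).resolve_right ne
  have y0 : y 0 = 0 := by linear_combination a1 - y1
  have y2 : y 2 = 0 := by linear_combination b1 - y3
  funext i
  fin_cases i
  · exact y0
  · exact y1
  · exact y2
  · exact y3

/-- An isotropic vector orthogonal to the isotropic vectors of `⟨u0, v0⟩^⊥`. -/
theorem span_of_perp (hF : Fintype.card F = 2 ^ 2) {ω : F} (hω : ω ^ 2 + ω + 1 = 0) (v : Fin 6 → F) (v0' : v ≠ 0)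
    (hv : hermForm 6 F 2 v v = 0)
    (h : ∀ z : Fin 4 → F, z ≠ 0 → hermForm 4 F 2 z z = 0 →
      hermForm 6 F 2 v (Fin.append z (0 : Fin 2 → F) : Fin (4 + 2) → F) = 0) :
    ∃ c : F, c ≠ 0 ∧ (v = c • u0 F 4 ∨ v = c • v0 4 ω ∨ v = c • (v0 4 ω + u0 F 4)) := by
  have huu := herm_u0 (F := F) hF (m := 4)
  have hvv := herm_v0 (F := F) hF hω (m := 4)
  have huv := herm_u0_v0 (F := F) hF hω (m := 4)
  have hvu := herm_v0_u0 (F := F) hF hω (m := 4)
  have h2 := two_eq_zero hF
  change hermForm 6 F 2 (u0 F 4) (u0 F 4) = 0 at huu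
  change hermForm 6 F 2 (v0 4 ω) (v0 4 ω) = 0 at hvv
  change hermForm 6 F 2 (u0 F 4) (v0 4 ω) = 1 at huv
  change hermForm 6 F 2 (v0 4 ω) (u0 F 4) = 1 at hvu
  set α := hermForm 6 F 2 v (v0 4 ω) with hα
  set β := hermForm 6 F 2 v (u0 F 4) with hβ
  set x : Fin 6 → F := v + (α • u0 F 4 + β • v0 4 ω) with hx
  have x1 : hermForm 6 F 2 x (u0 F 4) = 0 := by
    rw [hx, herm_add_left, herm_add_left, herm_smul_left, herm_smul_left, huu, hvu, ← hβ]
    linear_combination β * h2
  have x2 : hermForm 6 F 2 x (v0 4 ω) = 0 := by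
    rw [hx, herm_add_left, herm_add_left, herm_smul_left, herm_smul_left, huv, hvv, ← hα]
    linear_combination α * h2
  have e := eq_append_of_perp (m := 4) hF hω x1 x2
  set y : Fin 4 → F := fun i => x (Fin.castAdd 2 i) with hy
  have y0 : y = 0 := by
    apply eq_zero_of_iso hF
    intro z hz
    by_cases hz0 : z = 0
    · rw [hz0, herm_zero_right hF]
    have e1 : hermForm (4 + 2) F 2 x (Fin.append z (0 : Fin 2 → F)) = hermForm 4 F 2 y z := by
      rw [e, herm_append, herm_zero_left, add_zero]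
    have e2 : hermForm (4 + 2) F 2 x (Fin.append z (0 : Fin 2 → F)) = 0 := by
      have u1 : hermForm (4 + 2) F 2 (u0 F 4) (Fin.append z (0 : Fin 2 → F)) = 0 := by
        rw [u0, herm_append, herm_zero_left, herm_zero_right hF, add_zero]
      have u2 : hermForm (4 + 2) F 2 (v0 4 ω) (Fin.append z (0 : Fin 2 → F)) = 0 := by
        rw [v0, herm_append, herm_zero_left, herm_zero_right hF, add_zero]
      have u3 := h z hz0 hz
      change hermForm (4 + 2) F 2 v (Fin.append z (0 : Fin 2 → F)) = 0 at u3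
      show hermForm (4 + 2) F 2 (v + (α • u0 F 4 + β • v0 4 ω)) (Fin.append z (0 : Fin 2 → F)) = 0
      rw [herm_add_left, herm_add_left, herm_smul_left, herm_smul_left, u1, u2, u3]
      ring
    rw [← e1, e2]
  have x0 : x = 0 := by
    rw [e, y0]
    funext i
    refine Fin.addCases (fun i => ?_) (fun j => ?_) i <;> simp
  have hveq : v = α • u0 F 4 + β • v0 4 ω := by
    have : v + (α • u0 F 4 + β • v0 4 ω) + (α • u0 F 4 + β • v0 4 ω) = α • u0 F 4 + β • v0 4 ω := by
      rw [← hx, x0, zero_add]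
    rwa [add_assoc, vadd_self hF, add_zero] at this
  have hn : α * β * (α + β) = 0 := by
    have h1 := hv
    rw [hveq, herm_add_left, herm_add_right hF, herm_add_right hF, herm_smul_left, herm_smul_left, herm_smul_left,
      herm_smul_left, herm_smul_right, herm_smul_right, herm_smul_right, herm_smul_right, huu, hvv, huv, hvu] at h1
    linear_combination h1
  rcases mul_eq_zero.1 hn with h1 | h1
  · rcases mul_eq_zero.1 h1 with h1 | h1
    · refine ⟨β, ?_, Or.inr (Or.inl ?_)⟩
      · intro h0; apply v0'; rw [hveq, h1, h0, zero_smul, zero_smul, add_zero]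
      · rw [h1, zero_smul, zero_add] at hveq; exact hveq
    · refine ⟨α, ?_, Or.inl ?_⟩
      · intro h0; apply v0'; rw [hveq, h1, h0, zero_smul, zero_smul, add_zero]
      · rw [h1, zero_smul, add_zero] at hveq; exact hveq
  · have hab : α = β := by linear_combination h1 - β * h2
    refine ⟨β, ?_, Or.inr (Or.inr ?_)⟩
    · intro h0; apply v0'; rw [hveq, hab, h0, zero_smul, zero_smul, add_zero]
    · rw [hab] at hveq; rw [hveq, smul_add, add_comm]

end Lin

section Root

variable {E : Type*} [Group E] {F : Type*} [Field F] [Fintype F] {hF : Fintype.card F = 2 ^ 2} {R : Set E}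

/-- A special opposite pair with the uniqueness property. -/
theorem exists_special (RF : RootFacts hF R) : ∃ r ∈ R, ∃ s ∈ R, Opp r s ∧
    ∀ t ∈ R, (∀ d ∈ R, d * r = r * d → d * s = s * d → t * d = d * t) → t = r ∨ t = s ∨ t = r * s * r := by
  obtain ⟨ω, hω⟩ := exists_omega hF
  obtain ⟨d, hd, d', hd', hop⟩ := RF.opp
  obtain ⟨ψ, C⟩ := RF.chart d hd
  have huu := herm_u0 (F := F) hF (m := 4)
  have hvv := herm_v0 (F := F) hF hω (m := 4)
  have huv := herm_u0_v0 (F := F) hF hω (m := 4)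
  have hvu := herm_v0_u0 (F := F) hF hω (m := 4)
  have hu0 := u0_ne_zero (F := F) hF (m := 4)
  have hv0 : (v0 4 ω : Fin 6 → F) ≠ 0 := by
    intro h
    have h1 : hermForm 6 F 2 (v0 4 ω) (u0 F 4) = 1 := hvu
    rw [h, herm_zero_left] at h1
    exact zero_ne_one h1
  obtain ⟨r, hr, hrd', hrv⟩ := C.exists_root hd' hop (v := u0 F 4) hu0 huu
  obtain ⟨s, hs, hsd', hsv⟩ := C.exists_root hd' hop (v := v0 4 ω) hv0 hvv
  have hrd : r * d = d * r := mem_cent.1 hrv.2.2.1
  have hsd : s * d = d * s := mem_cent.1 hsv.2.2.1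
  have hnc : ¬ r * s = s * r := by
    intro hc
    have h1 := (C.comm_iff hd' hop hrv hsv hrd' hsd').1 hc
    have h2 : hermForm 6 F 2 (u0 F 4) (v0 4 ω) = 1 := huv
    rw [h1] at h2
    exact zero_ne_one h2
  have h3 : (r * s) ^ 3 = 1 := (C.three RF hd' hop hr hrd hrd' hs hsd hsd').resolve_left hnc
  have hrs : Opp r s := ⟨fun e => hnc (by rw [e]), h3⟩
  refine ⟨r, hr, s, hs, hrs, fun t ht hcomm => ?_⟩
  have htd : t * d = d * t := hcomm d hd hrd.symm hsd.symm
  have htd' : t * d' = d' * t := hcomm d' hd' hrd'.symm hsd'.symm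
  obtain ⟨v, hv⟩ := C.exists_vec RF hd' hop ht htd htd'
  have key := span_of_perp hF hω v hv.1 hv.2.1 (fun z hz0 hz => by
    set w : Fin 6 → F := (Fin.append z (0 : Fin 2 → F) : Fin (4 + 2) → F) with hw
    have w0 : w ≠ 0 := by
      intro h
      apply hz0
      funext i
      have := congrFun h (Fin.castAdd 2 i)
      rw [hw] at this
      simpa using this
    have ww : hermForm 6 F 2 w w = 0 := by
      show hermForm (4 + 2) F 2 (Fin.append z (0 : Fin 2 → F)) (Fin.append z (0 : Fin 2 → F)) = 0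
      rw [herm_append, hz, herm_zero_left, add_zero]
    obtain ⟨a, ha, had', hav⟩ := C.exists_root hd' hop w0 ww
    have wu : hermForm 6 F 2 w (u0 F 4) = 0 := by
      show hermForm (4 + 2) F 2 (Fin.append z (0 : Fin 2 → F)) (u0 F 4) = 0
      rw [u0, herm_append, herm_zero_left, herm_zero_right hF, add_zero]
    have wv : hermForm 6 F 2 w (v0 4 ω) = 0 := by
      show hermForm (4 + 2) F 2 (Fin.append z (0 : Fin 2 → F)) (v0 4 ω) = 0
      rw [v0, herm_append, herm_zero_left, herm_zero_right hF, add_zero]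
    have har : a * r = r * a := (C.comm_iff hd' hop hav hrv had' hrd').2 wu
    have has : a * s = s * a := (C.comm_iff hd' hop hav hsv had' hsd').2 wv
    exact (C.comm_iff hd' hop hv hav htd' had').1 (hcomm a ha har has))
  obtain ⟨c, hc, h | h | h⟩ := key
  · exact Or.inl (C.eq_of_smul hd' hop hrv hv hrd' htd' hc h).symm
  · exact Or.inr (Or.inl (C.eq_of_smul hd' hop hsv hv hsd' htd' hc h).symm)
  · refine Or.inr (Or.inr ?_)
    have hm : r * s * r ∈ Subgroup.centralizer ({d} : Set E) := mul_mem (mul_mem hrv.2.2.1 hsv.2.2.1) hrv.2.2.1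
    have hcm : (r * s * r) * d' = d' * (r * s * r) :=
      (Commute.mul_left (Commute.mul_left (show Commute r d' from hrd') (show Commute s d' from hsd'))
        (show Commute r d' from hrd')).eq
    obtain ⟨-, -, mr, er⟩ := hrv
    obtain ⟨-, -, ms, es⟩ := hsv
    have hvec : IsVec hF ψ (r * s * r) (v0 4 ω + u0 F 4) := by
      refine ⟨?_, ?_, hm, ?_⟩
      · intro h0
        apply hv.1
        rw [h, h0, smul_zero]
      · have a1 : hermForm 6 F 2 (u0 F 4) (u0 F 4) = 0 := huu
        have a2 : hermForm 6 F 2 (v0 4 ω) (v0 4 ω) = 0 := hvv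
        have a3 : hermForm 6 F 2 (u0 F 4) (v0 4 ω) = 1 := huv
        have a4 : hermForm 6 F 2 (v0 4 ω) (u0 F 4) = 1 := hvu
        rw [herm_add_left, herm_add_right hF, herm_add_right hF, a1, a2, a3, a4]
        linear_combination two_eq_zero hF
      · have e1 : (⟨r * s * r, hm⟩ : Subgroup.centralizer ({d} : Set E)) = ⟨r, mr⟩ * ⟨s, ms⟩ * ⟨r, mr⟩ := rfl
        have a4 : hermForm 6 F 2 (v0 4 ω) (u0 F 4) = 1 := hvu
        rw [e1, map_mul, map_mul, er, es, tau_conj_tau hF huu hvv]
        show tau hF (v0 4 ω + hermForm 6 F 2 (v0 4 ω) (u0 F 4) • u0 F 4) = _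
        rw [a4, one_smul]
    exact (C.eq_of_smul hd' hop hvec hv hcm htd' hc h).symm

/-- **Uniqueness**: a member of `R` commuting with all members of `R` commuting with an opposite pair. -/
theorem uniq (RF : RootFacts hF R) (htr : OppTrans R) {r s : E} (hr : r ∈ R) (hs : s ∈ R) (hop : Opp r s) {t : E}
    (ht : t ∈ R) (h : ∀ d ∈ R, d * r = r * d → d * s = s * d → t * d = d * t) :
    t = r ∨ t = s ∨ t = r * s * r := by
  obtain ⟨r0, hr0, s0, hs0, hop0, key⟩ := exists_special RF
  obtain ⟨g, hg1, hg2⟩ := htr r hr s hs r0 hr0 s0 hs0 hop hop0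
  have cj : ∀ a b : E, a * b = b * a → g * a * g⁻¹ * (g * b * g⁻¹) = g * b * g⁻¹ * (g * a * g⁻¹) := by
    intro a b hab
    have : g * (a * b) * g⁻¹ = g * (b * a) * g⁻¹ := by rw [hab]
    calc g * a * g⁻¹ * (g * b * g⁻¹) = g * (a * b) * g⁻¹ := by group
      _ = g * (b * a) * g⁻¹ := this
      _ = _ := by group
  have k := key (g * t * g⁻¹) (RF.conj t ht g) (fun d hd h1 h2 => by
    have hd' := RF.conj d hd g⁻¹
    rw [inv_inv] at hd'
    have e1 : (g⁻¹ * d * g) * r = r * (g⁻¹ * d * g) := by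
      rw [← hg1] at h1
      calc (g⁻¹ * d * g) * r = g⁻¹ * (d * (g * r * g⁻¹)) * g := by group
        _ = g⁻¹ * ((g * r * g⁻¹) * d) * g := by rw [h1]
        _ = _ := by group
    have e2 : (g⁻¹ * d * g) * s = s * (g⁻¹ * d * g) := by
      rw [← hg2] at h2
      calc (g⁻¹ * d * g) * s = g⁻¹ * (d * (g * s * g⁻¹)) * g := by group
        _ = g⁻¹ * ((g * s * g⁻¹) * d) * g := by rw [h2]
        _ = _ := by group
    have e3 := cj t _ (h _ hd' e1 e2)
    have e4 : g * (g⁻¹ * d * g) * g⁻¹ = d := by group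
    rwa [e4] at e3)
  have inj : ∀ a b : E, g * a * g⁻¹ = g * b * g⁻¹ → a = b := by
    intro a b hab
    have := congrArg (fun x => g⁻¹ * x * g) hab
    simpa [mul_assoc] using this
  rcases k with k | k | k
  · exact Or.inl (inj _ _ (k.trans hg1.symm))
  · exact Or.inr (Or.inl (inj _ _ (k.trans hg2.symm)))
  · refine Or.inr (Or.inr (inj _ _ ?_))
    rw [k, ← hg1, ← hg2]; group

end Root

end Cfsg.Agent.H720.RIM
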